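import Mathlib
import Cfsg.Agent.Lib.Hall.Basic
import Cfsg.Agent.Lib.Hall.Carter
import Cfsg.Agent.Lib.Char.PiPart

/-!
# Products of an abelian and a nilpotent subgroup

Coprime parts of a nilpotent subgroup and of a factorized group.
-/

set_option autoImplicit false
set_option linter.style.haveILetI false

open scoped Pointwise

namespace CfsgLib.AbelianNil

variable {G : Type*} [Group G] [Finite G]

omit [Finite G] in
/-- An element killed by a product of coprime numbers splits into powers of itself. -/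
theorem exists_split {m n : ℕ} (hmn : m.Coprime n) {x : G} (hx : x ^ (m * n) = 1) :
    ∃ i j : ℕ, x = x ^ i * x ^ j ∧ (x ^ i) ^ m = 1 ∧ (x ^ j) ^ n = 1 := by
  obtain ⟨i, hi1, hi0⟩ := Nat.chineseRemainder hmn 1 0
  obtain ⟨j, hj0, hj1⟩ := Nat.chineseRemainder hmn 0 1
  refine ⟨i, j, ?_, ?_, ?_⟩
  · have h1 : i + j ≡ 1 [MOD m] := by simpa using hi1.add hj0
    have h2 : i + j ≡ 1 [MOD n] := by simpa using hi0.add hj1
    have h := (Nat.modEq_and_modEq_iff_modEq_mul hmn).mp ⟨h1, h2⟩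
    have h' := pow_eq_pow_iff_modEq.mpr (h.of_dvd (orderOf_dvd_of_pow_eq_one hx))
    rw [← pow_add, h', pow_one]
  · obtain ⟨c, hc⟩ := Nat.modEq_zero_iff_dvd.mp hi0
    rw [← pow_mul, hc, show n * c * m = m * n * c by ring, pow_mul, hx, one_pow]
  · obtain ⟨c, hc⟩ := Nat.modEq_zero_iff_dvd.mp hj0
    rw [← pow_mul, hc, show m * c * n = m * n * c by ring, pow_mul, hx, one_pow]

omit [Finite G] in
theorem eq_one_of_coprime_pow {m n : ℕ} (hmn : m.Coprime n) {x : G} (hm : x ^ m = 1)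
    (hn : x ^ n = 1) : x = 1 :=
  orderOf_eq_one_iff.mp (Nat.eq_one_of_dvd_coprimes hmn (orderOf_dvd_of_pow_eq_one hm)
    (orderOf_dvd_of_pow_eq_one hn))

omit [Finite G] in
/-- If the image of `q t` is killed by `n`, it is the image of `t`. -/
theorem map_eq_right {Γ : Type*} [Group Γ] (f : G →* Γ) {m n : ℕ} (hmn : m.Coprime n) {q t : G}
    (hqt : Commute q t) (hq : q ^ m = 1) (ht : t ^ n = 1) (h : f (q * t) ^ n = 1) :
    f q = 1 := by
  refine eq_one_of_coprime_pow hmn (by rw [← map_pow, hq, map_one]) ?_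
  rw [map_mul, (hqt.map f).mul_pow, ← map_pow f t, ht, map_one, mul_one] at h
  exact h

/-- Elements of coprime exponents of a nilpotent subgroup commute. -/
theorem commute_of_pow {S : Subgroup G} (hS : Group.IsNilpotent S) {m n : ℕ} (hmn : m.Coprime n)
    {x y : G} (hx : x ∈ S) (hy : y ∈ S) (hxm : x ^ m = 1) (hyn : y ^ n = 1) : Commute x y := by
  haveI := hS
  have h : Commute (⟨x, hx⟩ : S) ⟨y, hy⟩ := by
    refine CfsgLib.Char.PiPart.commute_of_coprime ?_
    rw [Subgroup.orderOf_mk, Subgroup.orderOf_mk]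
    exact (hmn.coprime_dvd_left (orderOf_dvd_of_pow_eq_one hxm)).coprime_dvd_right
      (orderOf_dvd_of_pow_eq_one hyn)
  exact congrArg Subtype.val h.eq

/-- The elements of exponent `m` of a nilpotent subgroup form a Hall subgroup of it. -/
theorem exists_part {S : Subgroup G} (hS : Group.IsNilpotent S) {m n : ℕ} (hmn : m.Coprime n)
    (hc : Nat.card S ∣ m * n) : ∃ T : Subgroup G, T ≤ S ∧ (∀ x, x ∈ T ↔ x ∈ S ∧ x ^ m = 1) ∧
      Nat.card T = (Nat.card S).gcd m := by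
  haveI := hS
  set m' := (Nat.card S).gcd m
  set n' := (Nat.card S).gcd n
  have hcop : m'.Coprime n' :=
    (hmn.coprime_dvd_left (Nat.gcd_dvd_right _ _)).coprime_dvd_right (Nat.gcd_dvd_right _ _)
  have hS' : Nat.card S = m' * n' :=
    (Nat.gcd_eq_left hc).symm.trans (Nat.Coprime.gcd_mul _ hmn)
  obtain ⟨T, hT⟩ := CfsgLib.Hall.exists_hall hS' hcop
  obtain ⟨K, hK⟩ := CfsgLib.Hall.exists_hall (by rw [hS', mul_comm] : Nat.card S = n' * m') hcop.symm
  have hTK : ∀ x ∈ T, ∀ y ∈ K, Commute x y := fun x hx y hy =>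
    CfsgLib.Char.PiPart.commute_of_coprime ((hcop.coprime_dvd_left
      (hT ▸ Subgroup.orderOf_dvd_natCard T hx)).coprime_dvd_right (hK ▸ Subgroup.orderOf_dvd_natCard K hy))
  have htop : T ⊔ K = ⊤ := by
    refine Subgroup.eq_top_of_le_card _ (Nat.le_of_dvd Nat.card_pos ?_)
    rw [hS']
    exact hcop.mul_dvd_of_dvd_of_dvd (hT ▸ Subgroup.card_dvd_of_le le_sup_left)
      (hK ▸ Subgroup.card_dvd_of_le le_sup_right)
  haveI hTn : T.Normal := by
    rw [← Subgroup.normalizer_eq_top_iff, eq_top_iff, ← htop]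
    refine sup_le Subgroup.le_normalizer fun y hy => Subgroup.mem_normalizer_iff.mpr fun x => ?_
    constructor
    · intro hx
      rwa [← (hTK x hx y hy).eq, mul_inv_cancel_right]
    · intro hx
      have h := (hTK _ hx y hy).eq
      have e : x = y * x * y⁻¹ := by
        have h2 := congrArg (fun u => y⁻¹ * u) h
        simpa [mul_assoc] using h2
      rwa [e]
  refine ⟨T.map S.subtype, Subgroup.map_subtype_le _, fun x => ⟨?_, ?_⟩, ?_⟩
  · rintro ⟨s, hs, rfl⟩
    refine ⟨s.2, ?_⟩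
    rw [← map_pow, orderOf_dvd_iff_pow_eq_one.mp ((hT ▸ Subgroup.orderOf_dvd_natCard T hs).trans
      (Nat.gcd_dvd_right _ _)), map_one]
  · rintro ⟨hx, hxm⟩
    refine ⟨⟨x, hx⟩, ?_, rfl⟩
    have ho : orderOf (⟨x, hx⟩ : S) ∣ m := by
      rw [Subgroup.orderOf_mk]; exact orderOf_dvd_of_pow_eq_one hxm
    have hz : (Nat.card (Subgroup.zpowers (⟨x, hx⟩ : S))).Coprime n' := by
      rw [Nat.card_zpowers]
      exact (hmn.coprime_dvd_left ho).coprime_dvd_right (Nat.gcd_dvd_right _ _)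
    obtain ⟨g, hg⟩ := CfsgLib.Hall.exists_conj_le hS' hcop hT hz
    rw [Subgroup.Normal.conj_smul_eq_self g T] at hg
    exact hg (Subgroup.mem_zpowers _)
  · rw [Subgroup.card_map_of_injective S.subtype_injective, hT]

/-- The parts of the factors make up a Hall subgroup of a solvable factorized group. -/
theorem exists_prod_part [Group.IsSolvable G] {A B : Subgroup G} (hAc : ∀ a ∈ A, ∀ a' ∈ A, a * a' = a' * a)
    (hAB : A.IsComplement' B) (hBA : ∀ g : G, ∃ b ∈ B, ∃ a ∈ A, g = b * a) {m n : ℕ}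
    (hmn : m.Coprime n) (hG : Nat.card G = m * n) {U V : Subgroup G}
    (hU : ∀ x, x ∈ U ↔ x ∈ A ∧ x ^ m = 1) (hUc : Nat.card U = (Nat.card A).gcd m)
    (hV : ∀ x, x ∈ V ↔ x ∈ B ∧ x ^ m = 1) (hVc : Nat.card V = (Nat.card B).gcd m) :
    ∃ H : Subgroup G, Nat.card H = m ∧ ∀ x, x ∈ H ↔ ∃ u ∈ U, ∃ v ∈ V, x = u * v := by
  have hUm : (Nat.card U).Coprime n := hmn.coprime_dvd_left (hUc ▸ Nat.gcd_dvd_right _ _)
  have hVm : (Nat.card V).Coprime n := hmn.coprime_dvd_left (hVc ▸ Nat.gcd_dvd_right _ _)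
  obtain ⟨H₀, hH₀, hUH⟩ := CfsgLib.Hall.exists_hall_ge hG hmn hUm
  obtain ⟨g, hg⟩ := CfsgLib.Hall.exists_conj_le hG hmn hH₀ hVm
  obtain ⟨b, hb, a, ha, rfl⟩ := hBA g
  set H := MulAut.conj a • H₀ with hH
  have hmem : ∀ x, x ∈ H ↔ a⁻¹ * x * a ∈ H₀ := fun x => by
    rw [hH, Subgroup.mem_pointwise_smul_iff_inv_smul_mem]
    simp [MulAut.smul_def, mul_assoc]
  have hUH' : U ≤ H := fun u hu => by
    have e : a⁻¹ * u * a = u := by rw [mul_assoc, ← hAc a ha u ((hU u).mp hu).1, inv_mul_cancel_left]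
    rw [hmem, e]; exact hUH hu
  have hVH : V ≤ H := fun v hv => by
    have hv' : b * v * b⁻¹ ∈ V := by
      obtain ⟨h1, h2⟩ := (hV v).mp hv
      refine (hV _).mpr ⟨mul_mem (mul_mem hb h1) (inv_mem hb), ?_⟩
      rw [conj_pow, h2, mul_one, mul_inv_cancel]
    have h := Subgroup.mem_pointwise_smul_iff_inv_smul_mem.mp (hg hv')
    rw [hmem]
    simpa [MulAut.smul_def, mul_assoc] using h
  have hcard : Nat.card H = m := (Nat.card_congr (Subgroup.equivSMul (MulAut.conj a) H₀).toEquiv).symm.trans hH₀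
  have hprod : Nat.card U * Nat.card V = m := by
    have hA : Nat.card A * Nat.card B = m * n := hAB.card_mul.trans hG
    refine Nat.dvd_antisymm ?_ ?_
    · exact (Nat.Coprime.mul_left hUm hVm).dvd_of_dvd_mul_right (hA ▸ mul_dvd_mul (hUc ▸ Nat.gcd_dvd_left _ _) (hVc ▸ Nat.gcd_dvd_left _ _))
    · rw [hUc, hVc]
      have h1 : m ∣ Nat.card A * Nat.card B := hA ▸ dvd_mul_right m n
      calc m = m.gcd (Nat.card A * Nat.card B) := (Nat.gcd_eq_left h1).symm
        _ ∣ m.gcd (Nat.card A) * m.gcd (Nat.card B) := Nat.gcd_mul_right_dvd_mul_gcd m _ _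
        _ = (Nat.card A).gcd m * (Nat.card B).gcd m := by rw [Nat.gcd_comm m, Nat.gcd_comm m]
  let f : U × V → H := fun p => ⟨p.1 * p.2, mul_mem (hUH' p.1.2) (hVH p.2.2)⟩
  have hinj : Function.Injective f := by
    rintro ⟨u, v⟩ ⟨u', v'⟩ h
    have h' : ((⟨(u : G), ((hU u).mp u.2).1⟩, ⟨(v : G), ((hV v).mp v.2).1⟩) : A × B) =
        (⟨(u' : G), ((hU u').mp u'.2).1⟩, ⟨(v' : G), ((hV v').mp v'.2).1⟩) :=
      hAB.1 (congrArg Subtype.val h :)
    have h1 : (u : G) = u' := congrArg (fun z : A × B => (z.1 : G)) h'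
    have h2 : (v : G) = v' := congrArg (fun z : A × B => (z.2 : G)) h'
    exact Prod.ext (Subtype.ext h1) (Subtype.ext h2)
  have hbij : Function.Bijective f :=
    (Nat.bijective_iff_injective_and_card f).mpr ⟨hinj, by rw [Nat.card_prod, hprod, hcard]⟩
  refine ⟨H, hcard, fun x => ⟨fun hx => ?_, ?_⟩⟩
  · obtain ⟨⟨u, v⟩, e⟩ := hbij.2 ⟨x, hx⟩
    exact ⟨u, u.2, v, v.2, congrArg Subtype.val e.symm⟩
  · rintro ⟨u, hu, v, hv, rfl⟩
    exact mul_mem (hUH' hu) (hVH hv)

end CfsgLib.AbelianNil
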