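import Mathlib
import Cfsg.Prelude.Def_Solvable
import Cfsg.Agent.Lib.AbelianNilProduct.Parts
import Cfsg.Agent.Lib.NilProduct.Kegel
import Cfsg.Agent.Lib.NilProduct.Containing
import Cfsg.Agent.Lib.HallHigman.SolubleBounds
import Cfsg.Agent.Lib.PSolvable.Core
import Cfsg.Agent.Lib.Fitting.Basic

/-!
# A normal subgroup inside a factor

A nontrivial finite group that is the product of an abelian and a nilpotent subgroup has a
nontrivial normal subgroup contained in one of the two factors.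
-/

set_option autoImplicit false
set_option linter.style.haveILetI false

open scoped Pointwise
open Cfsg

namespace CfsgLib.AbelianNil

universe u

variable {G : Type u} [Group G] [Finite G]

/-- A counterexample. -/
structure Bad (A B : Subgroup G) : Prop where
  comm : ∀ a ∈ A, ∀ a' ∈ A, Commute a a'
  nil : Group.IsNilpotent B
  prod : ∀ g : G, ∃ a ∈ A, ∃ b ∈ B, g = a * b
  noA : ∀ x : G, (∀ g : G, g * x * g⁻¹ ∈ A) → x = 1
  noB : ∀ x : G, (∀ g : G, g * x * g⁻¹ ∈ B) → x = 1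

variable {A B : Subgroup G}

omit [Finite G] in
theorem Bad.prod' (s : Bad A B) (g : G) : ∃ b ∈ B, ∃ a ∈ A, g = b * a := by
  obtain ⟨a, ha, b, hb, h⟩ := s.prod g⁻¹
  exact ⟨b⁻¹, inv_mem hb, a⁻¹, inv_mem ha, by rw [← mul_inv_rev, ← h, inv_inv]⟩

omit [Finite G] in
theorem Bad.meet (s : Bad A B) {x : G} (hA : x ∈ A) (hB : x ∈ B) : x = 1 := by
  refine s.noB x fun g => ?_
  obtain ⟨b, hb, a, ha, rfl⟩ := s.prod' g
  have e : b * a * x * (b * a)⁻¹ = b * x * b⁻¹ := by
    rw [mul_assoc b a x, (s.comm a ha x hA).eq]; group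
  rw [e]
  exact mul_mem (mul_mem hb hB) (inv_mem hb)

omit [Finite G] in
theorem Bad.complement (s : Bad A B) : A.IsComplement' B := by
  refine Subgroup.isComplement'_of_disjoint_and_mul_eq_univ ?_ (Set.eq_univ_of_forall fun g => ?_)
  · rw [disjoint_iff, eq_bot_iff]
    exact fun x hx => Subgroup.mem_bot.mpr (s.meet hx.1 hx.2)
  · obtain ⟨a, ha, b, hb, rfl⟩ := s.prod g
    exact Set.mul_mem_mul ha hb

omit [Finite G] in
theorem Bad.unique (s : Bad A B) {a a' b b' : G} (ha : a ∈ A) (ha' : a' ∈ A) (hb : b ∈ B)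
    (hb' : b' ∈ B) (h : a * b = a' * b') : a = a' ∧ b = b' := by
  have hx : a'⁻¹ * a = b' * b⁻¹ := by
    rw [eq_mul_inv_iff_mul_eq, mul_assoc, h, inv_mul_cancel_left]
  have h1 := s.meet (mul_mem (inv_mem ha') ha) (hx ▸ mul_mem hb' (inv_mem hb))
  have h2 : a = a' := (inv_mul_eq_one.mp h1).symm
  exact ⟨h2, mul_left_cancel (h2 ▸ h)⟩

omit [Finite G] in
/-- A normal subgroup centralized by the abelian factor is trivial. -/
theorem Bad.eq_bot_of_centralized (s : Bad A B) {R : Subgroup G} [R.Normal]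
    (h : ∀ r ∈ R, ∀ a ∈ A, Commute a r) : R = ⊥ := by
  have hR : R ≤ A := by
    intro r hr
    obtain ⟨a₀, ha₀, b₀, hb₀, rfl⟩ := s.prod r
    have hb : b₀ = 1 := by
      refine s.noB b₀ fun g => ?_
      obtain ⟨b, hb, a, ha, rfl⟩ := s.prod' g
      have hc : Commute a b₀ := by
        have := (s.comm a ha a₀ ha₀).inv_right.mul_right (h _ hr a ha)
        rwa [inv_mul_cancel_left] at this
      have e : b * a * b₀ * (b * a)⁻¹ = b * b₀ * b⁻¹ := by rw [mul_assoc b a b₀, hc.eq]; group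
      rw [e]
      exact mul_mem (mul_mem hb hb₀) (inv_mem hb)
    rwa [hb, mul_one]
  refine (Subgroup.eq_bot_iff_forall R).mpr fun r hr => s.noA r fun g => hR ?_
  exact ‹R.Normal›.conj_mem r hr g

omit [Finite G] in
/-- An element whose conjugates lie in a `p`-subgroup lies in the `p`-core. -/
theorem mem_pCore_of_conj {p : ℕ} {P : Subgroup G} (hP : IsPGroup p P) {x : G}
    (h : ∀ g : G, g * x * g⁻¹ ∈ P) : x ∈ Cfsg.pCore p G := by
  have hle : Subgroup.normalClosure {x} ≤ P := by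
    rw [Subgroup.normalClosure, Subgroup.closure_le]
    intro y hy
    obtain ⟨z, hz, hzy⟩ := Group.mem_conjugatesOfSet_iff.mp hy
    rw [Set.mem_singleton_iff] at hz
    subst hz
    obtain ⟨g, rfl⟩ := isConj_iff.mp hzy
    exact h g
  exact Fitting.le_pCore Subgroup.normalClosure_normal (hP.to_le hle)
    (Subgroup.subset_normalClosure (Set.mem_singleton x))

open scoped IsMulCommutative in
/-- A coprime group of automorphisms fixing a coset of an abelian normal subgroup fixes one of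
its elements. -/
theorem exists_fixed_in_coset {H M : Subgroup G} [M.Normal] [IsMulCommutative M]
    (hc : (Nat.card M).Coprime (Nat.card H)) {a : G} (h : ∀ x ∈ H, x * a * x⁻¹ * a⁻¹ ∈ M) :
    ∃ μ ∈ M, ∀ x ∈ H, Commute x (μ * a) := by
  classical
  letI := Fintype.ofFinite H
  let f : H → M := fun x => ⟨(x : G) * a * (x : G)⁻¹ * a⁻¹, h x x.2⟩
  let σ : H → MulAut M := fun x => MulAut.conjNormal (x : G)
  have hf : ∀ x y : H, f (x * y) = σ x (f y) * f x := fun x y => Subtype.ext <| by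
    simp only [Subgroup.coe_mul, MulAut.conjNormal_apply, f, σ]
    group
  set F : M := ∏ y : H, f y with hF
  have hrec : ∀ x : H, F = σ x F * f x ^ Nat.card H := fun x => by
    conv_lhs => rw [hF, ← Equiv.prod_comp (Equiv.mulLeft x) f]
    simp only [Equiv.coe_mulLeft, hf, Finset.prod_mul_distrib, Finset.prod_const, map_prod, hF,
      Finset.card_univ, Nat.card_eq_fintype_card]
  set μ : M := (powCoprime hc).symm F
  have hμ : μ ^ Nat.card H = F := (powCoprime hc).apply_symm_apply F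
  refine ⟨μ, μ.2, fun x hx => ?_⟩
  have h1 : σ ⟨x, hx⟩ μ * f ⟨x, hx⟩ = μ := by
    refine (powCoprime hc).injective ?_
    change (_ * _) ^ Nat.card H = μ ^ Nat.card H
    rw [mul_pow, ← map_pow, hμ, ← hrec]
  have h2 := congrArg Subtype.val h1
  simp only [Subgroup.coe_mul, MulAut.conjNormal_apply, f, σ] at h2
  change x * ((μ : G) * a) = (μ : G) * a * x
  conv_rhs => rw [← h2]
  group

omit [Finite G] in
/-- Nilpotency passes to smaller subgroups. -/
theorem isNilpotent_of_le {X Y : Subgroup G} (h : X ≤ Y) (hY : Group.IsNilpotent Y) :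
    Group.IsNilpotent X :=
  haveI := hY
  (Group.isNilpotent_congr (Subgroup.subgroupOfEquivOfLe h)).mp inferInstance

/-- A subgroup of a nilpotent group with elements killed by `p ^ e` is a `p`-group. -/
theorem isPGroup_of_pow {p e : ℕ} {X : Subgroup G} (h : ∀ x ∈ X, x ^ p ^ e = 1) : IsPGroup p X :=
  fun x => ⟨e, Subtype.ext (by simpa using h x x.2)⟩

section Case

variable (s : Bad A B) {p e n : ℕ} {M : Subgroup G}

/-- In an image, an element killed by `n` comes from an element killed by `n`. -/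
theorem exists_right {Γ : Type*} [Group Γ] (f : G →* Γ) {m : ℕ} (hmn : m.Coprime n)
    (hG : Nat.card G = m * n) {S : Subgroup G} {x : G} (hx : x ∈ S) (h : f x ^ n = 1) :
    ∃ t ∈ S, t ^ n = 1 ∧ f x = f t := by
  obtain ⟨i, j, e, hi, hj⟩ := exists_split hmn (x := x) (by rw [← hG, pow_card_eq_one'])
  refine ⟨x ^ j, pow_mem hx j, hj, ?_⟩
  have h1 := map_eq_right f hmn ((Commute.refl x).pow_pow i j) hi hj (by rw [← e]; exact h)
  conv_lhs => rw [e, map_mul, h1, one_mul]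

include s in
/-- The case in which the `p'`-part of the nilpotent factor centralizes `M`. -/
theorem Bad.false_of_nil_part [Group.IsSolvable G] [hp : Fact p.Prime] (he : e ≠ 0)
    (hcop : (p ^ e).Coprime n)
    (hG : Nat.card G = p ^ e * n) [M.Normal] (hM : M ≠ ⊥)
    (hMc : ∀ x ∈ M, ∀ a ∈ A, ∀ b ∈ B, x = a * b → Commute a x)
    (hU : ∀ U : Subgroup (G ⧸ Subgroup.centralizer (M : Set G)), U.Normal → Group.IsNilpotent U →
      ∀ u ∈ U, u ^ n = 1)
    (hmeet : ∀ z ∈ A, ∀ y ∈ B, y⁻¹ * z ∈ Subgroup.centralizer (M : Set G) →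
      z ^ p ^ e ∈ Subgroup.centralizer (M : Set G) → z ∈ Subgroup.centralizer (M : Set G))
    (hD : ∀ t ∈ B, t ^ n = 1 → t ∈ Subgroup.centralizer (M : Set G)) : False := by
  set K := Subgroup.centralizer (M : Set G)
  set π := QuotientGroup.mk' K
  have hone : ∀ x : G, π x = 1 ↔ x ∈ K := fun x => QuotientGroup.eq_one_iff x
  have heq : ∀ x y : G, π x = π y ↔ x⁻¹ * y ∈ K := fun x y => QuotientGroup.eq
  have hBp : ∀ y ∈ B, π y ^ p ^ e = 1 := fun y hy => by
    obtain ⟨q, hq, hqe, e1⟩ := exists_right (G := G) π (n := p ^ e) (m := n) hcop.symm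
      (by rw [hG, mul_comm]) hy (by
        obtain ⟨i, j, e2, hi, hj⟩ := exists_split hcop (x := y) (by rw [← hG, pow_card_eq_one'])
        have : π y = π (y ^ i) := by
          conv_lhs => rw [e2, map_mul, (hone _).mpr (hD _ (pow_mem hy j) hj), mul_one]
        rw [this, ← map_pow, hi, map_one])
    rw [e1, ← map_pow, hqe, map_one]
  have hfull : ∀ z ∈ A, ∀ y ∈ B, y⁻¹ * z ∈ K → z ∈ K := fun z hz y hy h =>
    hmeet z hz y hy h ((hone _).mp (by rw [map_pow, ← (heq y z).mpr h, hBp y hy]))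
  set A' := A.map π with hA'
  set B' := B.map π with hB'
  have hcompl : A'.IsComplement' B' := by
    refine Subgroup.isComplement'_of_disjoint_and_mul_eq_univ ?_ (Set.eq_univ_of_forall fun g => ?_)
    · rw [disjoint_iff, eq_bot_iff]
      rintro _ ⟨⟨z, hz, rfl⟩, ⟨y, hy, hy'⟩⟩
      exact Subgroup.mem_bot.mpr ((hone z).mpr (hfull z hz y hy ((heq y z).mp hy')))
    · obtain ⟨g, rfl⟩ := QuotientGroup.mk'_surjective K g
      obtain ⟨a, ha, b, hb, rfl⟩ := s.prod g
      exact ⟨π a, ⟨a, ha, rfl⟩, π b, ⟨b, hb, rfl⟩, (map_mul π a b).symm⟩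
  have hB'p : IsPGroup p B' := isPGroup_of_pow (e := e) <| by
    rintro _ ⟨y, hy, rfl⟩; exact hBp y hy
  obtain ⟨k, hk⟩ := IsPGroup.iff_card.mp hB'p
  haveI hFn := Fitting.fittingSubgroup_normal (G := G ⧸ K)
  set F := Cfsg.fittingSubgroup (G ⧸ K) with hF
  have hFA : F ≤ A' := by
    rw [← Subgroup.relIndex_eq_one]
    refine Nat.eq_one_of_dvd_coprimes ?_ (Subgroup.relIndex_dvd_card (H := A') (K := F))
      ((Fitting.relIndex_dvd_index_of_normal_right A' F).trans
        (by rw [hcompl.symm.index_eq_card, hk]))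
    refine Nat.Coprime.pow_right k ((hp.out.coprime_iff_not_dvd.mpr fun hd => ?_).symm)
    obtain ⟨u, hu⟩ := exists_prime_orderOf_dvd_card' p hd
    have hu1 : (u : G ⧸ K) ^ n = 1 := hU F hFn Fitting.fittingSubgroup_isNilpotent u u.2
    rw [← Subgroup.orderOf_coe] at hu
    exact hp.out.ne_one (Nat.eq_one_of_dvd_coprimes hcop (dvd_pow_self p he)
      (hu ▸ orderOf_dvd_of_pow_eq_one hu1))
  have hAF : A' ≤ F := by
    refine le_trans (fun x hx => Subgroup.mem_centralizer_iff.mpr fun y hy => ?_)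
      CfsgLib.PSolvable.centralizer_fittingSubgroup_le
    obtain ⟨a, ha, rfl⟩ := hx
    obtain ⟨a', ha', rfl⟩ := hFA hy
    exact ((s.comm a' ha' a ha).map π).eq
  haveI hA'n : A'.Normal := by rw [le_antisymm hAF hFA]; exact hFn
  set N := A'.comap π
  haveI : N.Normal := hA'n.comap π
  have hAN : A ≤ N := fun a ha => ⟨a, ha, rfl⟩
  refine hM ((Subgroup.eq_bot_iff_forall M).mpr fun m hm => ?_)
  refine s.noB m fun g => ?_
  -- it is enough to show that `M` lies in `B`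
  suffices hMB : ∀ m ∈ M, m ∈ B from hMB _ (‹M.Normal›.conj_mem m hm g)
  intro m hm
  obtain ⟨a, ha, b, hb, hab⟩ := s.prod m
  have ham := hMc m hm a ha b hb hab
  let d : G → G → G := fun g t => (g * a * g⁻¹)⁻¹ * (g * t * a * (g * t)⁻¹)
  have hd : ∀ g : G, ∀ t ∈ N, d g t ∈ B := by
    intro g t ht
    obtain ⟨y, hy, a₁, ha₁, rfl⟩ := s.prod' g
    obtain ⟨α, hα, hαt⟩ : π (a₁ * t) ∈ A' := mul_mem (hAN ha₁) ht
    obtain ⟨y', hy', a₂, ha₂, hgt⟩ := s.prod' (y * a₁ * t)
    set k := α⁻¹ * (a₁ * t)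
    have hk : k ∈ K := (heq _ _).mp hαt
    have he : y⁻¹ * y' = α * a₂⁻¹ * (a₂ * k * a₂⁻¹) := by
      rw [eq_mul_inv_of_mul_eq hgt.symm]; simp only [k]; group
    have hz : α * a₂⁻¹ ∈ K := hfull _ (mul_mem hα (inv_mem ha₂)) (y⁻¹ * y')
      (mul_mem (inv_mem hy) hy') (by
        rw [he]
        have := K.inv_mem ((inferInstance : K.Normal).conj_mem k hk a₂)
        simpa [mul_assoc] using this)
    have hy0 : y⁻¹ * y' ∈ K := by
      rw [he]; exact mul_mem hz ((inferInstance : K.Normal).conj_mem k hk a₂)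
    have hcm : Commute (y⁻¹ * y') m := (Subgroup.mem_centralizer_iff.mp hy0 m hm).symm
    have e1 : y * a₁ * a * (y * a₁)⁻¹ = y * a * y⁻¹ := by
      rw [mul_assoc y a₁ a, (s.comm a₁ ha₁ a ha).eq]; group
    have e2 : y * a₁ * t * a * (y * a₁ * t)⁻¹ = y' * a * y'⁻¹ := by
      rw [hgt, mul_assoc y' a₂ a, (s.comm a₂ ha₂ a ha).eq]; group
    have e3 : y' * m * y'⁻¹ = y * m * y⁻¹ := by
      have h := congrArg (fun v => y * v * (y⁻¹ * y')⁻¹ * y⁻¹) hcm.eq
      simpa [mul_assoc] using h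
    have e4 : d (y * a₁) t = y * b * y⁻¹ * (y' * b * y'⁻¹)⁻¹ := by
      have ea : a = m * b⁻¹ := eq_mul_inv_of_mul_eq hab.symm
      simp only [d, e1, e2]
      rw [show y' * a * y'⁻¹ = (y' * m * y'⁻¹) * (y' * b * y'⁻¹)⁻¹ by rw [ea]; group, e3, ea]
      group
    rw [e4]
    exact mul_mem (mul_mem (mul_mem hy hb) (inv_mem hy)) (inv_mem (mul_mem (mul_mem hy' hb) (inv_mem hy')))
  have hcomm : ∀ t ∈ N, Commute t a := by
    intro t ht
    have h1 : d 1 t = 1 := by
      refine s.noB _ fun h => ?_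
      have := hd h t ht
      simp only [d] at this ⊢
      simpa [mul_assoc] using this
    simp only [d, one_mul, inv_one, mul_one, inv_mul_eq_one] at h1
    exact (eq_mul_inv_iff_mul_eq.mp h1).symm
  have ha1 : a = 1 := by
    haveI : (Subgroup.centralizer (N : Set G)).Normal := Subgroup.normal_centralizer
    have hle : Subgroup.normalClosure {a} ≤ Subgroup.centralizer (N : Set G) :=
      Subgroup.normalClosure_le_normal (Set.singleton_subset_iff.mpr
        (Subgroup.mem_centralizer_iff.mpr fun t ht => (hcomm t ht).eq))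
    have h0 := s.eq_bot_of_centralized (R := Subgroup.normalClosure {a}) fun r hr a' ha' =>
      Subgroup.mem_centralizer_iff.mp (hle hr) a' (hAN ha')
    exact Subgroup.mem_bot.mp (h0 ▸ Subgroup.subset_normalClosure (Set.mem_singleton a))
  rw [hab, ha1, one_mul]
  exact hb

include s in
/-- The case in which the `p'`-part of the abelian factor centralizes `M`. -/
theorem Bad.false_of_abelian_part [Group.IsSolvable G] [hp : Fact p.Prime]
    (hcop : (p ^ e).Coprime n) (hG : Nat.card G = p ^ e * n) [M.Normal] (hM : M ≠ ⊥)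
    (hMc : ∀ x ∈ M, ∀ a ∈ A, ∀ b ∈ B, x = a * b → Commute a x)
    {TA TB H : Subgroup G} (hTA : ∀ x, x ∈ TA ↔ x ∈ A ∧ x ^ n = 1)
    (hTB : ∀ x, x ∈ TB ↔ x ∈ B ∧ x ^ n = 1) (hH : Nat.card H = n)
    (hHmem : ∀ x, x ∈ H ↔ ∃ u ∈ TA, ∃ v ∈ TB, x = u * v)
    (hMb : ∀ x ∈ M, ∀ a ∈ A, ∀ b ∈ B, x = a * b → b ^ p ^ e = 1)
    {U : Subgroup (G ⧸ Subgroup.centralizer (M : Set G))} [U.Normal]
    (hUn : ∀ u ∈ U, u ^ n = 1) (hU0 : U ≠ ⊥)
    (hUside : U ≤ A.map (QuotientGroup.mk' _) ∨ U ≤ B.map (QuotientGroup.mk' _))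
    (hUfix : ∀ ν ∈ M, (∀ x : G, QuotientGroup.mk' _ x ∈ U → Commute x ν) → ν = 1)
    (hmeet : ∀ z ∈ A, ∀ y ∈ B, y⁻¹ * z ∈ Subgroup.centralizer (M : Set G) →
      z ^ p ^ e ∈ Subgroup.centralizer (M : Set G) → z ∈ Subgroup.centralizer (M : Set G))
    (hE : ∀ t ∈ A, t ^ n = 1 → t ∈ Subgroup.centralizer (M : Set G)) : False := by
  set K := Subgroup.centralizer (M : Set G)
  set π := QuotientGroup.mk' K
  have hone : ∀ x : G, π x = 1 ↔ x ∈ K := fun x => QuotientGroup.eq_one_iff x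
  have heq : ∀ x y : G, π x = π y ↔ x⁻¹ * y ∈ K := fun x y => QuotientGroup.eq
  have hAp : ∀ z ∈ A, π z ^ p ^ e = 1 := fun z hz => by
    obtain ⟨i, j, e2, hi, hj⟩ := exists_split hcop (x := z) (by rw [← hG, pow_card_eq_one'])
    have : π z = π (z ^ i) := by
      conv_lhs => rw [e2, map_mul, (hone _).mpr (hE _ (pow_mem hz j) hj), mul_one]
    rw [this, ← map_pow, hi, map_one]
  have hfull : ∀ z ∈ A, ∀ y ∈ B, y⁻¹ * z ∈ K → z ∈ K := fun z hz y hy h =>
    hmeet z hz y hy h ((hone _).mp (by rw [map_pow]; exact hAp z hz))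
  have hUB : U ≤ B.map π := by
    refine hUside.resolve_left fun h => hU0 ((Subgroup.eq_bot_iff_forall U).mpr fun u hu => ?_)
    obtain ⟨z, hz, rfl⟩ := h hu
    exact eq_one_of_coprime_pow hcop (hAp z hz) (hUn _ hu)
  set N := U.comap π with hN
  haveI : N.Normal := ‹U.Normal›.comap π
  have hKN : K ≤ N := fun x hx => by rw [hN, Subgroup.mem_comap, (hone x).mpr hx]; exact one_mem U
  have hNd : ∀ x ∈ N, ∃ t ∈ TB, t ∈ N ∧ π x = π t := by
    intro x hx
    obtain ⟨y, hy, hyx⟩ := hUB hx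
    obtain ⟨t, ht, htn, hyt⟩ := exists_right π hcop hG hy (by rw [hyx]; exact hUn _ hx)
    exact ⟨t, (hTB t).mpr ⟨ht, htn⟩, by rw [hN, Subgroup.mem_comap, ← hyt, hyx]; exact hx, by rw [← hyt, hyx]⟩
  set H2 := H ⊓ N with hH2
  have hdecomp : ∀ h ∈ H2, ∃ u ∈ TA, ∃ v ∈ TB, v ∈ N ∧ h = u * v := by
    intro h hh
    obtain ⟨u, hu, v, hv, rfl⟩ := (hHmem h).mp hh.1
    exact ⟨u, hu, v, hv, (N.mul_mem_cancel_left (hKN (hE u ((hTA u).mp hu).1 ((hTA u).mp hu).2))).mp hh.2, rfl⟩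
  have hd2 : ∀ t ∈ TB, t ∈ N → t ∈ H2 := fun t ht htN =>
    ⟨(hHmem t).mpr ⟨1, one_mem _, t, ht, (one_mul t).symm⟩, htN⟩
  -- `H2` is a Hall subgroup of `N`
  have hidx : H.index = p ^ e := by
    have h := H.card_mul_index
    rw [hH, hG, mul_comm (p ^ e)] at h
    exact Nat.eq_of_mul_eq_mul_left (hH ▸ Nat.card_pos) h
  have hcardN : Nat.card N = Nat.card H2 * H.relIndex N := by
    rw [← Subgroup.inf_relIndex_right, ← hH2]
    have h := (H2.subgroupOf N).card_mul_index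
    rw [Nat.card_congr (Subgroup.subgroupOfEquivOfLe (inf_le_right : H2 ≤ N)).toEquiv] at h
    exact h.symm
  have hcop2 : (Nat.card H2).Coprime (H.relIndex N) :=
    (hcop.symm.coprime_dvd_left (hH ▸ Subgroup.card_dvd_of_le inf_le_left)).coprime_dvd_right
      (hidx ▸ Fitting.relIndex_dvd_index_of_normal_right H N)
  -- `M` is centralized by `A`
  refine hM (s.eq_bot_of_centralized fun m hm α hα => ?_)
  obtain ⟨a, ha, b, hb, hab⟩ := s.prod m
  have ham := hMc m hm a ha b hb hab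
  set H3 := (MulAut.conj α • H2) with hH3
  have hH3N : H3 ≤ N := by
    rw [hH3]
    intro x hx
    rw [Subgroup.mem_pointwise_smul_iff_inv_smul_mem] at hx
    have h1 := ‹N.Normal›.conj_mem _ hx.2 α
    simpa [MulAut.smul_def, mul_assoc] using h1
  obtain ⟨g₀, hg₀⟩ := CfsgLib.Hall.exists_conj_le (H := H3.subgroupOf N) (K := H2.subgroupOf N)
    hcardN hcop2 (by
      rw [Nat.card_congr (Subgroup.subgroupOfEquivOfLe hH3N).toEquiv, hH3]
      exact (Nat.card_congr (Subgroup.equivSMul (MulAut.conj α) H2).toEquiv).symm) (by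
      rw [Nat.card_congr (Subgroup.subgroupOfEquivOfLe (inf_le_right : H2 ≤ N)).toEquiv]; exact hcop2)
  have hmove : ∀ h ∈ H2, α⁻¹ * ((g₀ : G)⁻¹ * h * g₀) * α ∈ H2 := by
    intro h hh
    have h1 := Subgroup.mem_pointwise_smul_iff_inv_smul_mem.mp
      (hg₀ (Subgroup.mem_subgroupOf.mpr (show ((⟨h, hh.2⟩ : N) : G) ∈ H2 from hh)))
    rw [Subgroup.mem_subgroupOf, hH3, Subgroup.mem_pointwise_smul_iff_inv_smul_mem] at h1
    simpa [MulAut.smul_def, mul_assoc] using h1
  obtain ⟨a₁, ha₁, b₁, hb₁, hg⟩ := s.prod ((g₀ : G)⁻¹)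
  have ha₁K : a₁ ∈ K := by
    obtain ⟨y, hy, hyg⟩ := hUB (show π (g₀ : G)⁻¹ ∈ U from N.inv_mem g₀.2)
    refine hfull a₁ ha₁ (y * b₁⁻¹) (mul_mem hy (inv_mem hb₁)) ((heq _ _).mp ?_)
    rw [map_mul, map_inv π b₁, hyg, ← map_inv π b₁, ← map_mul, hg, mul_inv_cancel_right]
  have hb₁N : b₁ ∈ N := by
    have h : a₁ * b₁ ∈ N := hg ▸ N.inv_mem g₀.2
    exact (N.mul_mem_cancel_left (hKN ha₁K)).mp h
  obtain ⟨i, j, hsp, hi, hj⟩ := exists_split hcop (x := b₁) (by rw [← hG, pow_card_eq_one'])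
  set q := b₁ ^ i with hq
  set t := b₁ ^ j with ht
  have htT : t ∈ TB := (hTB t).mpr ⟨pow_mem hb₁ j, hj⟩
  set α' := a₁⁻¹ * α with hα'
  have hα'A : α' ∈ A := mul_mem (inv_mem ha₁) hα
  -- every element of `H2` fixes `b`
  have hfixb : ∀ h ∈ H2, Commute h b := by
    intro h hh
    obtain ⟨u, hu, v, hv, -, rfl⟩ := hdecomp h hh
    have hu' := (hTA u).mp hu
    have hum : Commute u m := (Subgroup.mem_centralizer_iff.mp (hE u hu'.1 hu'.2) m hm).symm
    have hub : Commute u b := by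
      have := (s.comm u hu'.1 a ha).inv_right.mul_right hum
      rwa [hab, inv_mul_cancel_left] at this
    have hvb : Commute v b :=
      (commute_of_pow s.nil hcop hb ((hTB v).mp hv).1 (hMb m hm a ha b hb hab) ((hTB v).mp hv).2).symm
    exact hub.mul_left hvb
  have hfix : ∀ d ∈ TB, d ∈ N → Commute d (α' * b * α'⁻¹) := by
    intro d hd hdN
    have hqd : Commute q d := commute_of_pow s.nil hcop (pow_mem hb₁ i) ((hTB d).mp hd).1 hi ((hTB d).mp hd).2
    have hd' : t⁻¹ * d * t ∈ H2 := hd2 _ (mul_mem (mul_mem (inv_mem htT) hd) htT) (by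
      have := mul_mem (mul_mem (N.inv_mem (pow_mem hb₁N j)) hdN) (pow_mem hb₁N j)
      exact this)
    have h1 := hfixb _ (hmove _ hd')
    have hg' : (g₀ : G) = (a₁ * b₁)⁻¹ := by rw [← hg, inv_inv]
    have hqd' : q * d * q⁻¹ = d := by rw [hqd.eq, mul_inv_cancel_right]
    have e : α⁻¹ * ((g₀ : G)⁻¹ * (t⁻¹ * d * t) * g₀) * α = α'⁻¹ * d * α' := by
      rw [hg', hsp, hα']
      conv_rhs => rw [← hqd']
      group
    rw [e] at h1
    have h2 := congrArg (fun x => α' * x * α'⁻¹) h1.eq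
    change d * (α' * b * α'⁻¹) = α' * b * α'⁻¹ * d
    simpa [mul_assoc] using h2
  set ν := m⁻¹ * (α' * m * α'⁻¹) with hν
  have hν1 : ν = 1 := by
    have hνM : ν ∈ M := mul_mem (inv_mem hm) (‹M.Normal›.conj_mem m hm α')
    refine hUfix ν hνM fun x hx => ?_
    obtain ⟨d, hd, hdN, hxd⟩ := hNd x hx
    have hdb : Commute d b := hfixb d (hd2 d hd hdN)
    have eb : ν = b⁻¹ * (α' * b * α'⁻¹) := by
      have ha' : α' * a * α'⁻¹ = a := by rw [(s.comm α' hα'A a ha).eq, mul_inv_cancel_right]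
      rw [hν, show α' * m * α'⁻¹ = (α' * a * α'⁻¹) * (α' * b * α'⁻¹) by rw [hab]; group, ha', ← mul_assoc]
      congr 1
      rw [hab]; group
    have hdν : Commute d ν := eb ▸ hdb.inv_right.mul_right (hfix d hd hdN)
    have hk : Commute (d⁻¹ * x) ν :=
      (Subgroup.mem_centralizer_iff.mp ((heq d x).mp hxd.symm) ν hνM).symm
    simpa using hdν.mul_left hk
  have hcm : Commute α' m := by
    have := inv_mul_eq_one.mp hν1
    exact (eq_mul_inv_iff_mul_eq.mp this).symm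
  have := (show Commute a₁ m from (Subgroup.mem_centralizer_iff.mp ha₁K m hm).symm).mul_left hcm
  rwa [hα', mul_inv_cancel_left] at this

end Case

/-- A counterexample with the property for its quotients does not exist. -/
theorem Bad.false [Nontrivial G] (s : Bad A B)
    (hind : ∀ (K : Subgroup G) [K.Normal], K ≠ ⊥ → K ≠ ⊤ → ∃ U : Subgroup (G ⧸ K), U.Normal ∧ U ≠ ⊥ ∧
      (U ≤ A.map (QuotientGroup.mk' K) ∨ U ≤ B.map (QuotientGroup.mk' K))) : False := by
  classical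
  have hnA : Group.IsNilpotent A := by
    haveI : IsMulCommutative A := ⟨⟨fun x y => Subtype.ext (s.comm x x.2 y y.2).eq⟩⟩
    open scoped IsMulCommutative in exact inferInstance
  haveI : Group.IsSolvable G := CfsgLib.NilProduct.isSolvable_mul A B hnA s.nil s.prod
  obtain ⟨p, hpp, hpd, hcore⟩ := CfsgLib.HallHigman.exists_pCore_ne_bot_of_solvable G inferInstance
  haveI := Fact.mk hpp
  set e := (Nat.card G).factorization p with he
  set n := Nat.card G / p ^ e with hn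
  have hG : Nat.card G = p ^ e * n := (Nat.ordProj_mul_ordCompl_eq_self _ p).symm
  have hpn : p.Coprime n := Nat.coprime_ordCompl hpp Nat.card_pos.ne'
  have he0 : e ≠ 0 := (hpp.factorization_pos_of_dvd Nat.card_pos.ne' hpd).ne'
  have hcop : (p ^ e).Coprime n := hpn.pow_left e
  have hG' : Nat.card G = n * p ^ e := by rw [hG, mul_comm]
  -- the parts
  have hdA : Nat.card A ∣ p ^ e * n := hG ▸ A.card_subgroup_dvd_card
  have hdB : Nat.card B ∣ p ^ e * n := hG ▸ B.card_subgroup_dvd_card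
  obtain ⟨QA, -, hQA, hQAc⟩ := exists_part hnA hcop hdA
  obtain ⟨QB, -, hQB, hQBc⟩ := exists_part s.nil hcop hdB
  obtain ⟨TA, -, hTA, hTAc⟩ := exists_part hnA hcop.symm (by rwa [mul_comm])
  obtain ⟨TB, -, hTB, hTBc⟩ := exists_part s.nil hcop.symm (by rwa [mul_comm])
  have hAc : ∀ a ∈ A, ∀ a' ∈ A, a * a' = a' * a := fun a ha a' ha' => (s.comm a ha a' ha').eq
  obtain ⟨P, hPc, hP⟩ := exists_prod_part hAc s.complement s.prod' hcop hG hQA hQAc hQB hQBc
  obtain ⟨H, hHc, hH⟩ := exists_prod_part hAc s.complement s.prod' hcop.symm hG' hTA hTAc hTB hTBc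
  have hPp : IsPGroup p P := IsPGroup.of_card hPc
  set R := Cfsg.pCore p G with hR
  haveI : R.Normal := Fitting.pCore_normal p
  have hRp : IsPGroup p R := Fitting.pCore_isPGroup p
  have hRP : R ≤ P := by
    have hsup := hPp.to_sup_of_normal_right hRp
    obtain ⟨k, hk⟩ := IsPGroup.iff_card.mp hsup
    have hd : p ^ k ∣ p ^ e :=
      (hpn.pow_left k).dvd_of_dvd_mul_right (hG ▸ hk ▸ (P ⊔ R).card_subgroup_dvd_card)
    exact (Subgroup.eq_of_le_of_card_ge le_sup_left (by rw [hk, hPc]; exact Nat.le_of_dvd (pow_pos hpp.pos e) hd) :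
      P = P ⊔ R) ▸ le_sup_right
  have hsplit : ∀ r ∈ R, ∀ x ∈ A, ∀ y ∈ B, r = x * y →
      x ∈ R ∧ y ∈ R ∧ x ^ p ^ e = 1 ∧ y ^ p ^ e = 1 := by
    intro r hr x hx y hy hxy
    obtain ⟨u, hu, v, hv, huv⟩ := (hP r).mp (hRP hr)
    obtain ⟨rfl, rfl⟩ := s.unique hx ((hQA u).mp hu).1 hy ((hQB v).mp hv).1 (hxy.symm.trans huv)
    have hxR : x ∈ R := by
      refine mem_pCore_of_conj hPp fun g => ?_
      obtain ⟨b, hb, a, ha, rfl⟩ := s.prod' g
      have e1 : b * a * x * (b * a)⁻¹ = b * r * b⁻¹ * (b * y * b⁻¹)⁻¹ := by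
        rw [mul_assoc b a x, (s.comm a ha x hx).eq, hxy]; group
      rw [e1]
      refine mul_mem (hRP (‹R.Normal›.conj_mem r hr b)) (inv_mem ((hP _).mpr ⟨1, one_mem _, b * y * b⁻¹, ?_, (one_mul _).symm⟩))
      refine (hQB _).mpr ⟨mul_mem (mul_mem hb hy) (inv_mem hb), ?_⟩
      rw [conj_pow, ((hQB y).mp hv).2, mul_one, mul_inv_cancel]
    refine ⟨hxR, ?_, ((hQA x).mp hu).2, ((hQB y).mp hv).2⟩
    have : y = x⁻¹ * r := by rw [hxy, inv_mul_cancel_left]
    rw [this]; exact mul_mem (inv_mem hxR) hr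
  -- a minimal normal subgroup of `R`
  obtain ⟨M, hMR, ⟨hMn, hM⟩, hMmin⟩ := exists_minimal_le_of_wellFoundedLT
    (fun N : Subgroup G => N.Normal ∧ N ≠ ⊥) R ⟨inferInstance, hcore⟩
  haveI := hMn
  have hsub : ∀ C : Subgroup G, C.Normal → C ≤ M → C ≠ ⊥ → C = M := fun C hC hCM hC0 =>
    le_antisymm hCM (hMmin ⟨hC, hC0⟩ hCM)
  set K := Subgroup.centralizer (M : Set G) with hK
  haveI : K.Normal := Subgroup.normal_centralizer
  have hRK : R ≤ K := by
    haveI : (Subgroup.centralizer (R : Set G)).Normal := Subgroup.normal_centralizer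
    have h0 := CfsgLib.NilProduct.inf_center_ne_bot hRp hMR hM
    have hc : M ≤ Subgroup.centralizer (R : Set G) :=
      (hsub _ (Subgroup.normal_inf_normal _ _) inf_le_left h0).ge.trans inf_le_right
    exact fun r hr => Subgroup.mem_centralizer_iff.mpr fun m hm =>
      (Subgroup.mem_centralizer_iff.mp (hc hm) r hr).symm
  haveI : IsMulCommutative M := ⟨⟨fun x y => Subtype.ext
    (Subgroup.mem_centralizer_iff.mp (hRK (hMR y.2)) x x.2)⟩⟩
  have hK1 : K ≠ ⊥ := fun h => hM (le_bot_iff.mp ((hMR.trans hRK).trans h.le))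
  have hK2 : K ≠ ⊤ := by
    intro h
    refine hM (s.eq_bot_of_centralized fun m hm a _ => ?_)
    exact (Subgroup.mem_centralizer_iff.mp (h ▸ Subgroup.mem_top a : a ∈ K) m hm).symm
  set π := QuotientGroup.mk' K with hπ
  have hone : ∀ x : G, π x = 1 ↔ x ∈ K := fun x => QuotientGroup.eq_one_iff x
  have heq : ∀ x y : G, π x = π y ↔ x⁻¹ * y ∈ K := fun x y => QuotientGroup.eq
  have hsurj : Function.Surjective π := QuotientGroup.mk'_surjective K
  -- the quotient has trivial `p`-core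
  have hcoreK : Cfsg.pCore p (G ⧸ K) = ⊥ := by
    set O := Cfsg.pCore p (G ⧸ K)
    haveI hOn : O.Normal := Fitting.pCore_normal p
    have hOP : O ≤ P.map π := by
      have hsup := (hPp.map π).to_sup_of_normal_right (Fitting.pCore_isPGroup (G := G ⧸ K) p)
      obtain ⟨k, hk⟩ := IsPGroup.iff_card.mp hsup
      have hidx : P.index = n := by
        have h := P.card_mul_index
        rw [hPc, hG] at h
        exact Nat.eq_of_mul_eq_mul_left (pow_pos hpp.pos e) h
      have hd : p ^ k ∣ Nat.card (P.map π) := by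
        refine (hpn.pow_left k).coprime_dvd_right (hidx ▸ Subgroup.index_map_dvd P hsurj) |>.dvd_of_dvd_mul_right ?_
        rw [(P.map π).card_mul_index]
        exact hk ▸ (P.map π ⊔ O).card_subgroup_dvd_card
      exact (Subgroup.eq_of_le_of_card_ge le_sup_left (hk.trans_le (Nat.le_of_dvd Nat.card_pos hd)) :
        P.map π = P.map π ⊔ O) ▸ le_sup_right
    set N := O.comap π
    haveI : N.Normal := hOn.comap π
    have hKN : K ≤ N := fun x hx => by
      rw [Subgroup.mem_comap, (hone x).mpr hx]; exact one_mem O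
    haveI : (Subgroup.centralizer (N : Set G)).Normal := Subgroup.normal_centralizer
    have h0 := CfsgLib.NilProduct.inf_center_ne_bot (hPp.to_le (inf_le_left : P ⊓ N ≤ P))
      (le_inf (hMR.trans hRP) ((hMR.trans hRK).trans hKN)) hM
    have hle : M ⊓ Subgroup.centralizer ((P ⊓ N : Subgroup G) : Set G) ≤
        M ⊓ Subgroup.centralizer (N : Set G) := by
      rintro m ⟨hm, hmc⟩
      refine ⟨hm, Subgroup.mem_centralizer_iff.mpr fun x hx => ?_⟩
      obtain ⟨q, hq, hqx⟩ := hOP hx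
      have hqN : q ∈ N := by rw [Subgroup.mem_comap, hqx]; exact hx
      have h1 : Commute q m := Subgroup.mem_centralizer_iff.mp hmc q ⟨hq, hqN⟩
      have h2 : Commute (q⁻¹ * x) m := (Subgroup.mem_centralizer_iff.mp ((heq q x).mp hqx) m hm).symm
      simpa using (h1.mul_left h2).eq
    have hc : M ≤ Subgroup.centralizer (N : Set G) :=
      (hsub _ (Subgroup.normal_inf_normal _ _) inf_le_left fun h => h0 (le_bot_iff.mp (hle.trans h.le))).ge.trans inf_le_right
    refine (Subgroup.eq_bot_iff_forall O).mpr fun u hu => ?_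
    obtain ⟨x, rfl⟩ := hsurj u
    exact (hone x).mpr (Subgroup.mem_centralizer_iff.mpr fun m hm =>
      (Subgroup.mem_centralizer_iff.mp (hc hm) x hu).symm)
  have hdQ : ∀ U : Subgroup (G ⧸ K), Nat.card U ∣ p ^ e * n := fun U =>
    hG ▸ U.card_subgroup_dvd_card.trans K.card_quotient_dvd_card
  have hUn : ∀ U : Subgroup (G ⧸ K), U.Normal → Group.IsNilpotent U → ∀ u ∈ U, u ^ n = 1 := by
    intro U hU hUnil u hu
    obtain ⟨V, -, hV, hVc⟩ := exists_part hUnil hcop (hdQ U)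
    have hVn : V.Normal := ⟨fun v hv g => (hV _).mpr ⟨hU.conj_mem v ((hV v).mp hv).1 g, by
      rw [conj_pow, ((hV v).mp hv).2, mul_one, mul_inv_cancel]⟩⟩
    obtain ⟨k, -, hk⟩ := (Nat.dvd_prime_pow hpp).mp (hVc ▸ Nat.gcd_dvd_right _ _ : Nat.card V ∣ p ^ e)
    have hV0 : V = ⊥ := le_bot_iff.mp (hcoreK ▸ Fitting.le_pCore hVn (IsPGroup.of_card hk))
    obtain ⟨i, j, hsp, hi, hj⟩ := exists_split hcop (x := u)
      (orderOf_dvd_iff_pow_eq_one.mp ((Subgroup.orderOf_dvd_natCard U hu).trans (hdQ U)))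
    have : u ^ i = 1 := Subgroup.mem_bot.mp (hV0 ▸ (hV _).mpr ⟨pow_mem hu i, hi⟩)
    rw [hsp, this, one_mul, hj]
  have hmeet : ∀ z ∈ A, ∀ y ∈ B, y⁻¹ * z ∈ K → z ^ p ^ e ∈ K → z ∈ K := by
    intro z hz y hy hyz hze
    have hzy : π z = π y := ((heq y z).mpr hyz).symm
    have hy1 : π y ^ p ^ e = 1 := by rw [← hzy, ← map_pow]; exact (hone _).mpr hze
    have hQBp : IsPGroup p (QB.map π) :=
      (isPGroup_of_pow fun x hx => ((hQB x).mp hx).2).map π
    refine (hone z).mp (Subgroup.mem_bot.mp (hcoreK ▸ mem_pCore_of_conj hQBp fun g => ?_))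
    obtain ⟨g, rfl⟩ := hsurj g
    obtain ⟨b, hb, a, ha, rfl⟩ := s.prod' g
    have e1 : π (b * a) * π z * (π (b * a))⁻¹ = π (b * y * b⁻¹) := by
      have hc := congrArg π (s.comm a ha z hz).eq
      simp only [map_mul, map_inv, mul_inv_rev] at hc ⊢
      rw [mul_assoc (π b) (π a), hc, hzy]; group
    rw [e1]
    obtain ⟨t, ht, htn, hyt⟩ := exists_right π (m := n) (n := p ^ e) hcop.symm hG'
      (mul_mem (mul_mem hb hy) (inv_mem hb) : b * y * b⁻¹ ∈ B) (by
        rw [map_mul, map_mul, map_inv, conj_pow, hy1, mul_one, mul_inv_cancel])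
    exact ⟨t, (hQB t).mpr ⟨ht, htn⟩, hyt.symm⟩
  obtain ⟨U, hUnorm, hU0, hUside⟩ := hind K hK1 hK2
  haveI := hUnorm
  have hUnil : Group.IsNilpotent U := hUside.elim
    (fun h => isNilpotent_of_le h (CfsgLib.NilProduct.isNilpotent_map hnA π))
    (fun h => isNilpotent_of_le h (CfsgLib.NilProduct.isNilpotent_map s.nil π))
  have hU' := hUn U hUnorm hUnil
  have hUfix : ∀ ν ∈ M, (∀ x : G, π x ∈ U → Commute x ν) → ν = 1 := by
    intro ν hν h
    set N := U.comap π
    haveI : N.Normal := hUnorm.comap π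
    haveI : (Subgroup.centralizer (N : Set G)).Normal := Subgroup.normal_centralizer
    by_contra hν1
    have hc : M ≤ Subgroup.centralizer (N : Set G) := (hsub (M ⊓ Subgroup.centralizer (N : Set G))
      inferInstance inf_le_left fun h0 => hν1 (Subgroup.mem_bot.mp (h0 ▸ Subgroup.mem_inf.mpr
        ⟨hν, Subgroup.mem_centralizer_iff.mpr fun x hx => (h x hx).eq⟩))).ge.trans inf_le_right
    refine hU0 ((Subgroup.eq_bot_iff_forall U).mpr fun u hu => ?_)
    obtain ⟨x, rfl⟩ := hsurj u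
    exact (hone x).mpr (Subgroup.mem_centralizer_iff.mpr fun m hm =>
      (Subgroup.mem_centralizer_iff.mp (hc hm) x hu).symm)
  -- one of the `p'`-parts centralizes `M`
  have hMsplit : ∀ x ∈ M, ∀ a ∈ A, ∀ b ∈ B, x = a * b →
      Commute a x ∧ Commute b x ∧ a ^ p ^ e = 1 ∧ b ^ p ^ e = 1 := by
    intro x hx a ha b hb hab
    obtain ⟨h1, h2, h3, h4⟩ := hsplit x (hMR hx) a ha b hb hab
    exact ⟨(Subgroup.mem_centralizer_iff.mp (hRK h1) x hx).symm,
      (Subgroup.mem_centralizer_iff.mp (hRK h2) x hx).symm, h3, h4⟩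
  have hMcard : (Nat.card M).Coprime (Nat.card H) := by
    obtain ⟨k, hk⟩ := IsPGroup.iff_card.mp (hRp.to_le hMR)
    rw [hk, hHc]; exact hpn.pow_left k
  have hkey : ∀ m ∈ M, ∃ a b μ : G, a ∈ A ∧ b ∈ B ∧ m = a * b ∧ μ ∈ M ∧
      (∀ u ∈ TA, Commute u a ∧ Commute u (μ * a)) ∧ (∀ v ∈ TB, Commute v b ∧ Commute v (μ * a)) := by
    intro m hm
    obtain ⟨a, ha, b, hb, hab⟩ := s.prod m
    obtain ⟨-, -, hae, hbe⟩ := hMsplit m hm a ha b hb hab
    have hTAa : ∀ u ∈ TA, Commute u a := fun u hu => s.comm u ((hTA u).mp hu).1 a ha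
    have hTBb : ∀ v ∈ TB, Commute v b := fun v hv =>
      (commute_of_pow s.nil hcop hb ((hTB v).mp hv).1 hbe ((hTB v).mp hv).2).symm
    obtain ⟨μ, hμ, hμc⟩ := exists_fixed_in_coset (M := M) (H := H) hMcard (a := a) (by
      intro h hh
      obtain ⟨u, hu, v, hv, rfl⟩ := (hH h).mp hh
      have ea : a = m * b⁻¹ := eq_mul_inv_of_mul_eq hab.symm
      have ev : v * a * v⁻¹ * a⁻¹ = v * m * v⁻¹ * m⁻¹ := by
        calc v * a * v⁻¹ * a⁻¹ = v * m * v⁻¹ * (v * b * v⁻¹)⁻¹ * a⁻¹ := by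
              rw [ea]; group
          _ = v * m * v⁻¹ * m⁻¹ := by
              rw [(hTBb v hv).eq, mul_inv_cancel_right, hab]; group
      have eu : u * v * a * (u * v)⁻¹ * a⁻¹ = u * (v * a * v⁻¹ * a⁻¹) * u⁻¹ := by
        calc _ = u * (v * a * v⁻¹ * a⁻¹) * u⁻¹ * (u * a * u⁻¹ * a⁻¹) := by group
          _ = _ := by rw [(hTAa u hu).eq, mul_inv_cancel_right, mul_inv_cancel, mul_one]
      rw [eu, ev]
      exact hMn.conj_mem _ (mul_mem (hMn.conj_mem m hm v) (inv_mem hm)) u)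
    exact ⟨a, b, μ, ha, hb, hab, hμ,
      fun u hu => ⟨hTAa u hu, hμc u ((hH u).mpr ⟨u, hu, 1, one_mem _, (mul_one u).symm⟩)⟩,
      fun v hv => ⟨hTBb v hv, hμc v ((hH v).mpr ⟨1, one_mem _, v, hv, (one_mul v).symm⟩)⟩⟩
  have hlift : ∀ {S T : Subgroup G}, U ≤ S.map π → (∀ t ∈ S, t ^ n = 1 → t ∈ T) →
      ∀ ν ∈ M, (∀ t ∈ T, Commute t ν) → ν = 1 := by
    intro S T hS hST ν hν hc
    refine hUfix ν hν fun x hx => ?_
    obtain ⟨y, hy, hyx⟩ := hS hx
    obtain ⟨t, ht, htn, hyt⟩ := exists_right π hcop hG hy (by rw [hyx]; exact hU' _ hx)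
    have h2 : Commute (t⁻¹ * x) ν :=
      (Subgroup.mem_centralizer_iff.mp ((heq t x).mp (hyt.symm.trans hyx)) ν hν).symm
    simpa using (hc t (hST t ht htn)).mul_left h2
  have hcase : (∀ t ∈ B, t ^ n = 1 → t ∈ K) ∨ ∀ t ∈ A, t ^ n = 1 → t ∈ K := by
    rcases hUside with h | h
    · left
      intro v hv hvn
      refine Subgroup.mem_centralizer_iff.mpr fun m hm => ?_
      obtain ⟨a, b, μ, ha, hb, hab, hμ, hA', hB'⟩ := hkey m hm
      have hμ1 : μ = 1 := hlift h (T := TA) (fun t ht htn => (hTA t).mpr ⟨ht, htn⟩) μ hμ fun t ht => by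
        have := (hA' t ht).2.mul_right (hA' t ht).1.inv_right
        rwa [mul_inv_cancel_right] at this
      obtain ⟨h1, h2⟩ := hB' v ((hTB v).mpr ⟨hv, hvn⟩)
      rw [hμ1, one_mul] at h2
      exact (hab ▸ h2.mul_right h1).eq.symm
    · right
      intro u hu hun
      refine Subgroup.mem_centralizer_iff.mpr fun m hm => ?_
      obtain ⟨a, b, μ, ha, hb, hab, hμ, hA', hB'⟩ := hkey m hm
      have hμm : μ * m = 1 := hlift h (T := TB) (fun t ht htn => (hTB t).mpr ⟨ht, htn⟩) (μ * m)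
        (mul_mem hμ hm) fun t ht => by
          have := (hB' t ht).2.mul_right (hB' t ht).1
          rwa [mul_assoc, ← hab] at this
      obtain ⟨h1, h2⟩ := hA' u ((hTA u).mpr ⟨hu, hun⟩)
      rw [eq_inv_of_mul_eq_one_left hμm] at h2
      have := (h2.mul_right h1.inv_right).inv_right
      rw [mul_inv_cancel_right, inv_inv] at this
      exact this.eq.symm
  have hMc : ∀ x ∈ M, ∀ a ∈ A, ∀ b ∈ B, x = a * b → Commute a x := fun x hx a ha b hb h =>
    (hMsplit x hx a ha b hb h).1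
  rcases hcase with h | h
  · exact s.false_of_nil_part he0 hcop hG hM hMc hUn hmeet h
  · exact s.false_of_abelian_part hcop hG hM hMc hTA hTB hHc hH
      (fun x hx a ha b hb h => (hMsplit x hx a ha b hb h).2.2.2) hU' hU0 hUside hUfix hmeet h

theorem exists_normal_le_aux (k : ℕ) : ∀ (G : Type u) [Group G] [Finite G] [Nontrivial G],
    Nat.card G = k → ∀ A B : Subgroup G, (∀ a ∈ A, ∀ a' ∈ A, Commute a a') → Group.IsNilpotent B →
    (∀ g : G, ∃ a ∈ A, ∃ b ∈ B, g = a * b) →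
    ∃ N : Subgroup G, N.Normal ∧ N ≠ ⊥ ∧ (N ≤ A ∨ N ≤ B) := by
  induction k using Nat.strong_induction_on with
  | _ k IH =>
  intro G _ _ _ hk A B hA hB hAB
  subst hk
  by_contra hne
  have key : ∀ X : Subgroup G, (∀ N : Subgroup G, N.Normal → N ≤ X → N = ⊥) →
      ∀ x : G, (∀ g : G, g * x * g⁻¹ ∈ X) → x = 1 := by
    intro X hX x hx
    have hle : Subgroup.normalClosure {x} ≤ X := by
      rw [Subgroup.normalClosure, Subgroup.closure_le]
      intro y hy
      obtain ⟨z, hz, hzy⟩ := Group.mem_conjugatesOfSet_iff.mp hy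
      rw [Set.mem_singleton_iff] at hz
      subst hz
      obtain ⟨g, rfl⟩ := isConj_iff.mp hzy
      exact hx g
    exact Subgroup.mem_bot.mp (hX _ Subgroup.normalClosure_normal hle ▸
      Subgroup.subset_normalClosure (Set.mem_singleton x))
  refine Bad.false (A := A) (B := B) ⟨hA, hB, hAB,
    key A fun N hN h => by_contra fun h0 => hne ⟨N, hN, h0, Or.inl h⟩,
    key B fun N hN h => by_contra fun h0 => hne ⟨N, hN, h0, Or.inr h⟩⟩ fun K _ hK hKt => ?_
  haveI : Nontrivial (G ⧸ K) := QuotientGroup.nontrivial_iff.mpr hKt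
  refine IH _ (CfsgLib.NilProduct.card_quotient_lt hK) (G ⧸ K) rfl _ _ ?_
    (CfsgLib.NilProduct.isNilpotent_map hB _) (CfsgLib.NilProduct.exists_fac_map hAB K)
  rintro _ ⟨a, ha, rfl⟩ _ ⟨a', ha', rfl⟩
  exact (hA a ha a' ha').map _

/-- The product of an abelian and a nilpotent subgroup has a normal subgroup inside a factor. -/
theorem exists_normal_le [Nontrivial G] (A B : Subgroup G) (hA : ∀ a ∈ A, ∀ a' ∈ A, Commute a a')
    (hB : Group.IsNilpotent B) (hAB : ∀ g : G, ∃ a ∈ A, ∃ b ∈ B, g = a * b) :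
    ∃ N : Subgroup G, N.Normal ∧ N ≠ ⊥ ∧ (N ≤ A ∨ N ≤ B) :=
  exists_normal_le_aux _ G rfl A B hA hB hAB

end CfsgLib.AbelianNil
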